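import Cfsg.Agent.H31.RC.PslM

/-!
# Elements acting on `f(SL₂(K))` as elements of `PGL₂(K)`
-/

set_option autoImplicit false
open Cfsg

namespace Cfsg.Agent.H31.RC

open MulAction Cfsg.Agent.H106.RC
open Matrix.ProjGenLinGroup (mk mk_eq_one mk_eq_mk_iff)
open scoped commutatorElement MatrixGroups

section bound

variable {K : Type} [Field K] [Fintype K]

omit [Fintype K] in
theorem sq_eq (T : Matrix (Fin 2) (Fin 2) K) : T * T = T.trace • T - T.det • 1 := by
  rw [Matrix.trace_fin_two, Matrix.det_fin_two]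
  ext i j
  fin_cases i <;> fin_cases j <;> simp [Matrix.mul_apply, Fin.sum_univ_two] <;> ring

omit [Fintype K] in
theorem pow_eq (T : Matrix (Fin 2) (Fin 2) K) (n : ℕ) : ∃ c : K × K, T ^ n = c.1 • 1 + c.2 • T := by
  induction n with
  | zero => exact ⟨(1, 0), by simp⟩
  | succ n ih =>
    obtain ⟨⟨a, b⟩, h⟩ := ih
    refine ⟨(-(b * T.det), a + b * T.trace), ?_⟩
    rw [pow_succ, h]
    simp only [add_mul, Matrix.smul_mul, one_mul, sq_eq]
    module

omit [Fintype K] in
theorem mk_eq_of_smul {T T' : GL (Fin 2) K} {c : K} (h : T.1 = c • T'.1) : mk T = mk T' := by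
  have hc : c ≠ 0 := by
    rintro rfl
    rw [zero_smul] at h
    have h1 := T.det.ne_zero
    rw [Matrix.GeneralLinearGroup.val_det_apply, h, Matrix.det_zero] at h1
    exact h1 rfl
  symm
  rw [mk_eq_mk_iff]
  refine ⟨Units.mk0 c hc, Units.ext ?_⟩
  rw [Units.val_mul, h]
  ext i j
  fin_cases i <;> fin_cases j <;> simp [Matrix.mul_apply, Fin.sum_univ_two, Matrix.GeneralLinearGroup.scalar, mul_comm]

/-- elements of `PGL₂(K)` have order at most `|K| + 1` -/
theorem orderOf_le (a : PGL(2, K)) : orderOf a ≤ Fintype.card K + 1 := by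
  classical
  obtain ⟨T, rfl⟩ := Matrix.ProjGenLinGroup.mk_surjective a
  choose c hc using fun n : ℕ => pow_eq T.1 n
  let g : Fin (orderOf (mk T)) → Option K := fun n =>
    if (c n).2 = 0 then none else some ((c n).1 / (c n).2)
  have key : ∀ n m : ℕ, (∃ e : K, T.1 ^ n = e • T.1 ^ m) → mk T ^ n = mk T ^ m := by
    rintro n m ⟨e, he⟩
    rw [← map_pow, ← map_pow]
    exact mk_eq_of_smul (c := e) (by rw [Units.val_pow_eq_pow_val, Units.val_pow_eq_pow_val]; exact he)
  have hg : Function.Injective g := by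
    intro n m hnm
    have h1 : mk T ^ (n : ℕ) = mk T ^ (m : ℕ) := by
      apply key
      simp only [g] at hnm
      by_cases h0 : (c n).2 = 0
      · rw [if_pos h0] at hnm
        have h0' : (c m).2 = 0 := by
          by_contra h
          rw [if_neg h] at hnm
          exact absurd hnm (by simp)
        have hm := hc m
        have hn := hc n
        rw [h0', zero_smul, add_zero] at hm
        rw [h0, zero_smul, add_zero] at hn
        have hm0 : (c m).1 ≠ 0 := by
          intro h2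
          rw [h2, zero_smul] at hm
          have h3 : (T ^ (m : ℕ)).det.1 ≠ 0 := Units.ne_zero _
          rw [Matrix.GeneralLinearGroup.val_det_apply, Units.val_pow_eq_pow_val, hm, Matrix.det_zero] at h3
          exact h3 rfl
        refine ⟨(c n).1 / (c m).1, ?_⟩
        rw [hm, hn, smul_smul, div_mul_cancel₀ _ hm0]
      · rw [if_neg h0] at hnm
        have h0' : (c m).2 ≠ 0 := by
          intro h
          rw [if_pos h] at hnm
          exact absurd hnm (by simp)
        rw [if_neg h0'] at hnm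
        have h2 : (c n).1 / (c n).2 = (c m).1 / (c m).2 := Option.some_injective _ hnm
        refine ⟨(c n).2 / (c m).2, ?_⟩
        rw [hc n, hc m, smul_add, smul_smul, smul_smul, div_mul_cancel₀ _ h0']
        congr 2
        field_simp at h2 ⊢
        linear_combination h2
    exact Fin.ext (pow_injOn_Iio_orderOf (Set.mem_Iio.2 n.2) (Set.mem_Iio.2 m.2) h1)
  have h1 := Fintype.card_le_of_injective g hg
  rwa [Fintype.card_fin, Fintype.card_option] at h1

end bound

section act

variable {K : Type} [Field K] {G : Type} [Group G]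

/-- conjugation of `SL₂(K)` by an element of `GL₂(K)` -/
def cj (P : GL (Fin 2) K) (s : SL(2, K)) : SL(2, K) :=
  ⟨P.1 * s.1 * (P⁻¹).1, by
    rw [Matrix.det_mul, Matrix.det_mul, s.2, mul_one, ← Matrix.det_mul, ← Units.val_mul, mul_inv_cancel]
    simp⟩

theorem cj_coe (P : GL (Fin 2) K) (s : SL(2, K)) : (cj P s).1 = P.1 * s.1 * (P⁻¹).1 := rfl

theorem cj_mul (P P' : GL (Fin 2) K) (s : SL(2, K)) : cj (P * P') s = cj P (cj P' s) := by
  apply Subtype.ext
  rw [cj_coe, cj_coe, cj_coe, mul_inv_rev, Units.val_mul, Units.val_mul]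
  simp only [mul_assoc]

theorem cj_one (s : SL(2, K)) : cj 1 s = s := by
  apply Subtype.ext
  rw [cj_coe]
  simp

theorem eq_smul_of_cj {P : GL (Fin 2) K} (h : ∀ s : SL(2, K), cj P s * s⁻¹ ∈ Subgroup.center SL(2, K)) :
    mk P = 1 := by
  have key : ∀ s : SL(2, K), ∃ e : K, P.1 * s.1 = e • (s.1 * P.1) := by
    intro s
    obtain ⟨e, he, hes⟩ := Matrix.SpecialLinearGroup.mem_center_iff.1 (h s)
    refine ⟨e, ?_⟩
    have h1 : cj P s = (cj P s * s⁻¹) * s := by group
    have h2 : (cj P s).1 = e • s.1 := by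
      rw [h1, Matrix.SpecialLinearGroup.coe_mul, ← hes]
      simp [Matrix.smul_eq_diagonal_mul]
    rw [cj_coe] at h2
    have h3 : P.1 * s.1 * (P⁻¹).1 * P.1 = (e • s.1) * P.1 := by rw [h2]
    rw [mul_assoc, ← Units.val_mul, inv_mul_cancel, Units.val_one, mul_one, Matrix.smul_mul] at h3
    exact h3
  have hdet : P.1.det ≠ 0 := by
    have := P.det.ne_zero
    rwa [Matrix.GeneralLinearGroup.val_det_apply] at this
  obtain ⟨p, q, u, v, hPe⟩ : ∃ p q u v : K, P.1 = !![p, q; u, v] := ⟨_, _, _, _, Matrix.eta_fin_two _⟩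
  rw [hPe, Matrix.det_fin_two_of] at hdet
  obtain ⟨e, he⟩ := key ⟨!![1, 1; 0, 1], by simp [Matrix.det_fin_two_of]⟩
  obtain ⟨d, hd⟩ := key ⟨!![1, 0; 1, 1], by simp [Matrix.det_fin_two_of]⟩
  rw [hPe] at he hd
  change !![p, q; u, v] * !![1, 1; 0, 1] = e • (!![1, 1; 0, 1] * !![p, q; u, v]) at he
  change !![p, q; u, v] * !![1, 0; 1, 1] = d • (!![1, 0; 1, 1] * !![p, q; u, v]) at hd
  rw [Matrix.mul_fin_two, Matrix.mul_fin_two] at he hd
  have e00 := congrFun (congrFun he 0) 0
  have e01 := congrFun (congrFun he 0) 1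
  have e10 := congrFun (congrFun he 1) 0
  have d01 := congrFun (congrFun hd 0) 1
  have d00 := congrFun (congrFun hd 0) 0
  simp at e00 e01 e10 d00 d01
  have h10 : u = 0 := by
    by_cases h1 : e = 1
    · subst h1
      linear_combination -e00
    · have h2 : (1 - e) * u = 0 := by linear_combination e10
      exact (mul_eq_zero.1 h2).resolve_left (sub_ne_zero.2 (Ne.symm h1))
  have h01 : q = 0 := by
    by_cases h1 : d = 1
    · subst h1
      linear_combination d00
    · have h2 : (1 - d) * q = 0 := by linear_combination d01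
      exact (mul_eq_zero.1 h2).resolve_left (sub_ne_zero.2 (Ne.symm h1))
  subst h10 h01
  have he1 : e = 1 := by
    have h2 : (1 - e) * p = 0 := by linear_combination e00
    rcases mul_eq_zero.1 h2 with h3 | h3
    · exact (sub_eq_zero.1 h3).symm
    · rw [h3] at hdet
      exact (hdet (by ring)).elim
  subst he1
  have h00 : p = v := by linear_combination e01
  subst h00
  rw [mk_eq_one, Matrix.GeneralLinearGroup.mem_center_iff_val_mem_range_scalar]
  refine ⟨p, ?_⟩
  rw [hPe]
  ext i j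
  fin_cases i <;> fin_cases j <;> simp

theorem cj_of_mk {P : GL (Fin 2) K} (h : mk P = 1) (s : SL(2, K)) : cj P s = s := by
  rw [mk_eq_one] at h
  apply Subtype.ext
  rw [cj_coe]
  have h1 := Subgroup.mem_center_iff.1 h (s : GL (Fin 2) K)
  have h2 : P.1 * s.1 = s.1 * P.1 := (congrArg Units.val h1).symm
  rw [h2, mul_assoc, ← Units.val_mul, mul_inv_cancel, Units.val_one, mul_one]

/-- `x` acts on the image of `f` as `P` -/
def Act (f : SL(2, K) →* G) (x : G) (P : GL (Fin 2) K) : Prop := ∀ s, x * f s * x⁻¹ = f (cj P s)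

variable {f : SL(2, K) →* G} {x y : G} {P P' : GL (Fin 2) K}

theorem Act.mul (h : Act f x P) (h' : Act f y P') : Act f (x * y) (P * P') := by
  intro s
  rw [cj_mul, ← h, ← h']
  group

theorem Act.one : Act f 1 1 := by
  intro s
  rw [cj_one]; group

theorem Act.pow (h : Act f x P) (n : ℕ) : Act f (x ^ n) (P ^ n) := by
  induction n with
  | zero => rw [pow_zero, pow_zero]; exact Act.one
  | succ n ih => rw [pow_succ, pow_succ]; exact ih.mul h

theorem Act.inv (h : Act f x P) : Act f x⁻¹ P⁻¹ := by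
  intro s
  have h1 := h (cj P⁻¹ s)
  rw [← cj_mul, mul_inv_cancel, cj_one] at h1
  rw [← h1]; group

theorem Act.mk_one (hf : f.ker = Subgroup.center SL(2, K)) (h : Act f 1 P) : mk P = 1 := by
  apply eq_smul_of_cj
  intro s
  rw [← hf, MonoidHom.mem_ker, map_mul, ← h, map_inv]
  group

theorem Act.mk_eq (hf : f.ker = Subgroup.center SL(2, K)) (h : Act f x P) (h' : Act f x P') : mk P = mk P' := by
  have h1 : Act f 1 (P * P'⁻¹) := by
    have := h.mul h'.inv
    rwa [mul_inv_cancel] at this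
  have h2 := h1.mk_one hf
  rwa [map_mul, map_inv, mul_inv_eq_one] at h2

theorem Act.cent_iff (hf : f.ker = Subgroup.center SL(2, K)) (h : Act f x P) :
    (∀ m ∈ f.range, x * m = m * x) ↔ mk P = 1 := by
  constructor
  · intro h1
    apply Act.mk_one hf
    intro s
    rw [← h, h1 _ ⟨s, rfl⟩]
    group
  · rintro h1 _ ⟨s, rfl⟩
    have h2 := h s
    rw [cj_of_mk h1] at h2
    exact mul_inv_eq_iff_eq_mul.1 h2

theorem Act.norm (h : Act f x P) : x ∈ Subgroup.normalizer (f.range : Set G) := by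
  rw [Subgroup.mem_normalizer_iff]
  intro m
  constructor
  · rintro ⟨s, rfl⟩
    exact ⟨cj P s, (h s).symm⟩
  · rintro ⟨s, hs⟩
    refine ⟨cj P⁻¹ s, ?_⟩
    rw [← h.inv, hs]
    group

theorem Act.comm (hf : f.ker = Subgroup.center SL(2, K)) (h : Act f x P) (h' : Act f y P') (hc : x * y = y * x) :
    Commute (mk P) (mk P') := by
  have h1 := h.mul h'
  rw [hc] at h1
  have h2 := h1.mk_eq hf (h'.mul h)
  rwa [map_mul, map_mul] at h2

end act

section rule

variable {K : Type} [Field K] [Fintype K] {G : Type} [Group G]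

/-- the small cases: at most one member does not centralise `f.range` -/
theorem small {ι : Type} {f : SL(2, K) →* G} (hf : f.ker = Subgroup.center SL(2, K)) {x : ι → G} {r : ι → ℕ}
    (hr : ∀ i, (r i).Prime) (hinj : Function.Injective r) (hx : ∀ i, x i ^ r i = 1)
    (hc : ∀ i j, x i * x j = x j * x i) {P : ι → GL (Fin 2) K} (hP : ∀ i, Act f (x i) (P i)) {i j : ι} (hij : i ≠ j)
    (hlt : Fintype.card K + 1 < r i * r j) :
    (∀ m ∈ f.range, x i * m = m * x i) ∨ (∀ m ∈ f.range, x j * m = m * x j) := by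
  rw [(hP i).cent_iff hf, (hP j).cent_iff hf]
  by_contra hcon
  push Not at hcon
  have hpow : ∀ i, mk (P i) ^ r i = 1 := by
    intro i
    have h1 := (hP i).pow (r i)
    rw [hx] at h1
    rw [← map_pow]
    exact h1.mk_one hf
  have hord : ∀ i, mk (P i) ≠ 1 → orderOf (mk (P i)) = r i := fun i hi => by
    have := Fact.mk (hr i)
    exact orderOf_eq_prime (hpow i) hi
  have h1 := ((hP i).comm hf (hP j) (hc i j)).orderOf_mul_eq_mul_orderOf_of_coprime (by
    rw [hord i hcon.1, hord j hcon.2, Nat.coprime_primes (hr i) (hr j)]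
    exact fun h => hij (hinj h))
  rw [hord i hcon.1, hord j hcon.2] at h1
  have h2 := orderOf_le (mk (P i) * mk (P j))
  omega

/-- the M-rule for `f.range` -/
theorem ruleM {ι Ω : Type} [Finite ι] [MulAction G Ω] (h4 : 3 < Fintype.card K) {f : SL(2, K) →* G}
    (hf : f.ker = Subgroup.center SL(2, K)) {x : ι → G} {r : ι → ℕ}
    (hr : ∀ i, (r i).Prime) (hinj : Function.Injective r) (hx : ∀ i, x i ^ r i = 1)
    (hc : ∀ i j, x i * x j = x j * x i) {P : ι → GL (Fin 2) K} (hP : ∀ i, Act f (x i) (P i))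
    (hsm : RC (Matrix.ProjectiveSpecialLinearGroup (Fin 2) K) ∨ ∀ i j, i ≠ j →
      (∀ m ∈ f.range, x i * m = m * x i) ∨ (∀ m ∈ f.range, x j * m = m * x j))
    (ω : Ω) (hcov : ∀ m ∈ f.range, ∃ i, x i • m • ω = m • ω) :
    f.range ≤ stabilizer G ω ∨ ∃ j, (∀ m ∈ f.range, x j * m = m * x j) ∧ x j • ω = ω := by
  have hS := Cfsg.Agent.TwoFusion.SLTwoFacts.isSimpleGroup_psl h4
  rcases hsm with hRC | hsm
  · exact mrule_RC hS (psl_ncomm h4) x r hr hinj hx hc f.range (perf h4 f) (pj f hf) (pj_bij f hf).2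
      (pj_ker f hf) (fun i => (hP i).norm) hRC ω hcov
  · by_cases h0 : ∀ i, ∀ m ∈ f.range, x i * m = m * x i
    · obtain ⟨i, hi⟩ := hcov 1 (one_mem _)
      rw [one_smul] at hi
      exact Or.inr ⟨i, h0 i, hi⟩
    · rw [not_forall] at h0
      obtain ⟨i₀, hi₀⟩ := h0
      exact mrule_one hS (psl_ncomm h4) x r hr hinj hx hc f.range (perf h4 f) (pj f hf) (pj_bij f hf).2
        (pj_ker f hf) i₀ (hP i₀).norm (fun i hi => (hsm i i₀ hi).resolve_right hi₀) ω hcov

/-- `RC` of `PSL₂(K)` from the induction hypothesis -/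
theorem rc_psl {Ω : Type} [Finite G] [MulAction G Ω] {N : Subgroup G} (hE : Env G Ω N) (hIH : IH (Nat.card N))
    (h9 : 9 < Fintype.card K) {f : SL(2, K) →* G} (hf : f.ker = Subgroup.center SL(2, K)) (hfN : f.range ≤ N)
    {z : G} (hz1 : z ≠ 1) (hz : ∀ m ∈ f.range, z * m = m * z) :
    RC (Matrix.ProjectiveSpecialLinearGroup (Fin 2) K) := by
  have hfin : Finite (Matrix.ProjectiveSpecialLinearGroup (Fin 2) K) :=
    Finite.of_surjective _ (pj_bij f hf).2
  refine hIH.use (MulEquiv.refl N) hfN ?_ (pj f hf) (pj_bij f hf).2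
    (Cfsg.Agent.TwoFusion.SLTwoFacts.isSimpleGroup_psl (by omega)) (psl_ncomm (by omega))
    (Or.inl ⟨K, inferInstance, inferInstance, 2, le_rfl, fun _ => by omega, ⟨MulEquiv.refl _⟩⟩)
    (psl_not_exc h9)
  intro h1
  apply hz1
  have h2 : z ∈ Subgroup.centralizer (N : Set G) := by
    rw [Subgroup.mem_centralizer_iff]
    intro n hn
    rw [← h1] at hn
    exact (hz n hn).symm
  rw [hE.cent] at h2
  exact Subgroup.mem_bot.1 h2

end rule

end Cfsg.Agent.H31.RC
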