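import Cfsg.Agent.H31.RC.D4p
import Cfsg.Agent.H457.RC.KAll

/-!
# S3510, row F, box D4+ : final form
-/

set_option autoImplicit false
open Cfsg

namespace Cfsg.Agent.H31.RC

open QuadraticMap (polar)
open MulAction
open Cfsg.Agent.LieClassical.OrthCore Cfsg.Agent.LieClassical.OrthTrans
open Cfsg.Agent.LieClassical.OrthSimple Cfsg.Agent.ClassicalGeometry.OrthSemi
open Cfsg.Agent.ClassicalGeometry.OrthAut1 Cfsg.Agent.H106.RC Cfsg.Agent.H93.RC Cfsg.Agent.H138.RC
open Cfsg.Agent.H338.RC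

variable {F V : Type} [Field F] [Finite F] [AddCommGroup V] [Module F V] [FiniteDimensional F V]
  {Q : QuadraticForm F V} {G Ω : Type} [Group G] [Finite G] [MulAction G Ω] [Nonempty Ω]
  {N : Subgroup G} {ρ : ↥(E Q) →* G}

/-- BOX D4p (`n = 8`, plus type over `L = F[κ]`; no member interchanges the two families of totally
singular `L`-planes: the members `i` with `r i ≠ 2` never do, the others by `hns`). -/
theorem box_D4p_of (hG : Good Q) (hE : Env G Ω N) (hρ : Rep Q N ρ) (hIH : IH (Nat.card (P Q)))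
    {p : ℕ} [CharP F p] (hLR : LR Q Ω ρ p) {ι : Type} [Finite ι] {x : ι → G} {M : ι → Gam Q} {r : ι → ℕ}
    (hl : ∀ i, Lf ρ (x i) (M i)) (hlin : ∀ i, IsLin (M i)) (hx : PF x r) (hcov : Cov Ω x)
    (h8 : Module.finrank F V = 8) (κ : V →ₗ[F] V) (s t : F)
    (hκ : ∀ v, κ (κ v) = s • κ v - t • v) (hirr : ∀ a : F, a * a - s * a + t ≠ 0)
    (hadj : ∀ v w, polar Q (κ v) w = polar Q v (κ w))
    (hcom : ∀ i v, (M i).1 (κ v) = κ ((M i).1 v))
    (U : Submodule F V) (hU : ∀ v ∈ U, Q v = 0) (hUκ : ∀ v ∈ U, κ v ∈ U)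
    (hU4 : Module.finrank F U = 4)
    (hns : ∀ i, r i = 2 → (∃ a b : F, ∀ v, (M i).1 v = a • v + b • κ v) ∨
      ((2 : F) = 0 ∧ ((∀ v ∈ U, (M i).1 v ∈ U) ∨ ∀ v ∈ U, (M i).1 v ∈ U → v = 0))) : False := by
  obtain ⟨K, _, _, _, _, _, _, α, R, hcard, hα, hgen, hR, -, hRn, hfr, hML⟩ :=
    Cfsg.Agent.H457.RC.exists_all hG.nondeg (by omega) κ s t hκ hirr hadj
  have hft : Fintype K := Fintype.ofFinite K
  have h4 : Module.finrank K V = 4 := by omega
  have h2 : Module.finrank F K = 2 := by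
    have h1 := Module.natCard_eq_pow_finrank (K := F) (V := K)
    rw [hcard] at h1
    exact (Nat.pow_right_injective (Finite.one_lt_card : 2 ≤ Nat.card F) h1).symm
  have hsm : ∀ (a b : F) (v : V), (algebraMap F K a + algebraMap F K b * α) • v = a • v + b • κ v := by
    intro a b v
    rw [add_smul, mul_smul, algebraMap_smul, algebraMap_smul, hα]
  have hUK : ∀ (a : K), ∀ v ∈ U, a • v ∈ U := by
    intro a v hv
    obtain ⟨c, d, rfl⟩ := hgen.gen a
    rw [hsm]
    exact U.add_mem (U.smul_mem c hv) (U.smul_mem d (hUκ v hv))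
  obtain ⟨W, hWU, hW, hW2⟩ := exists_Ksub hR h2 U hU hUK hU4
  have hcardN : Nat.card (P Q) = Nat.card N := by
    have h1 : Nonempty (P Q ≃* N) := by
      rw [← hρ.range]
      exact ⟨(QuotientGroup.quotientMulEquivOfEq hρ.ker.symm).trans (QuotientGroup.quotientKerEquivRange ρ)⟩
    obtain ⟨e⟩ := h1
    exact Nat.card_congr e.toEquiv
  refine D4K hG hE hρ (hcardN ▸ hIH) hLR hl hx hcov hcard hR hRn h4 α hgen.gen hgen.notMem ?_ ?_ W hW hW2 ?_
  · intro i a v
    obtain ⟨ML, c, h1, h3, -⟩ := hML (M i) (hlin i) (hcom i)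
    rw [h1]
    exact h3 a v
  · intro i
    obtain ⟨ML, c, -, -, h1, -, h3⟩ := hML (M i) (hlin i) (hcom i)
    refine ⟨algebraMap F K c, ?_, h3⟩
    rwa [Ne, map_eq_zero_iff _ (algebraMap F K).injective]
  · intro i hi
    rcases hns i hi with ⟨a, b, h⟩ | ⟨h0, h⟩
    · exact Or.inl ⟨_, fun v => (h v).trans (hsm a b v).symm⟩
    · right
      simp only [hWU]
      exact ⟨h0, h⟩

end Cfsg.Agent.H31.RC
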