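import Cfsg.Agent.H31.RC.MatV

/-!
# S3510, row F, box D4+ : the core
-/

set_option autoImplicit false
open Cfsg

namespace Cfsg.Agent.H31.RC

open QuadraticMap (polar)
open MulAction
open Cfsg.Agent.LieClassical.OrthCore Cfsg.Agent.LieClassical.OrthTrans
open Cfsg.Agent.LieClassical.OrthSimple Cfsg.Agent.ClassicalGeometry.OrthSemi
open Cfsg.Agent.ClassicalGeometry.OrthAut1 Cfsg.Agent.H106.RC Cfsg.Agent.H93.RC Cfsg.Agent.H138.RC
open Matrix.ProjGenLinGroup (mk mk_eq_one mk_eq_mk_iff)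
open scoped commutatorElement MatrixGroups

section lem

variable {K : Type} [Field K]

theorem cj_mul_right (P : GL (Fin 2) K) (s t : SL(2, K)) : cj P (s * t) = cj P s * cj P t := by
  apply Subtype.ext
  rw [Matrix.SpecialLinearGroup.coe_mul, cj_coe, cj_coe, cj_coe, Matrix.SpecialLinearGroup.coe_mul]
  calc P.1 * (s.1 * t.1) * (P⁻¹).1 = P.1 * s.1 * 1 * t.1 * (P⁻¹).1 := by simp only [mul_one, mul_assoc]
    _ = P.1 * s.1 * ((P⁻¹).1 * P.1) * t.1 * (P⁻¹).1 := by rw [← Units.val_mul, inv_mul_cancel, Units.val_one]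
    _ = _ := by simp only [mul_assoc]

theorem cj_inv (P : GL (Fin 2) K) (s : SL(2, K)) : (cj P s)⁻¹ = cj P s⁻¹ := by
  rw [inv_eq_iff_mul_eq_one, ← cj_mul_right, mul_inv_cancel]
  apply Subtype.ext
  rw [cj_coe]
  change P.1 * (1 : Matrix (Fin 2) (Fin 2) K) * (P⁻¹).1 = 1
  rw [mul_one, ← Units.val_mul, mul_inv_cancel, Units.val_one]

theorem smul_of_mk {P : GL (Fin 2) K} (h : mk P = 1) : ∃ a : K, P.1 = a • 1 := by
  rw [mk_eq_one, Matrix.GeneralLinearGroup.mem_center_iff_val_mem_range_scalar] at h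
  obtain ⟨a, ha⟩ := h
  refine ⟨a, ?_⟩
  rw [← ha]
  ext i j
  fin_cases i <;> fin_cases j <;> simp

end lem

variable {F K V G Ω : Type} [Field F] [Finite F] [Field K] [Fintype K] [Algebra F K] [AddCommGroup V] [Module F V]
  [Module K V] [IsScalarTower F K V] {Q : QuadraticForm F V} [Group G] [Finite G] [MulAction G Ω] [Nonempty Ω]
  {N : Subgroup G} {ρ : ↥(E Q) →* G}

omit [Nonempty Ω] in
/-- the core of box D4+ -/
theorem core (hG : Good Q) (hE : Env G Ω N) (hρ : Rep Q N ρ) (hIH : IH (Nat.card N)) {p : ℕ} [CharP F p]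
    (hLR : LR Q Ω ρ p) {ι : Type} [Finite ι] {x : ι → G} {M : ι → Gam Q} {r : ι → ℕ}
    (hl : ∀ i, Lf ρ (x i) (M i)) (hx : PF x r) (hcov : Cov Ω x) (h4 : 3 < Fintype.card K)
    (θ : V ≃ₗ[K] Matrix (Fin 2) (Fin 2) K) {lam : K → F} (hQ : ∀ v, Q v = lam (θ v).det) (α : K)
    (hα : ∀ a : K, ∃ c d : F, a = algebraMap F K c + algebraMap F K d * α) (hαF : ∀ c : F, α ≠ algebraMap F K c)
    (P R : ι → GL (Fin 2) K) (hM : ∀ i v, (M i).1 v = Phi F θ (P i, R i) v)
    (hsm : Fintype.card K ≤ 9 → ∀ i j, i ≠ j → ¬ (mk (P i) = 1 ∧ mk (R i) = 1) →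
      ¬ (mk (P j) = 1 ∧ mk (R j) = 1) → Fintype.card K + 1 < r i * r j) : False := by
  classical
  have hpp : p.Prime := by
    rcases CharP.char_is_prime_or_zero F p with h | h
    · exact h
    · exact (CharP.char_ne_zero_of_finite F p h).elim
  have : Fact p.Prime := ⟨hpp⟩
  have hKp : CharP K p := charP_of_injective_algebraMap (algebraMap F K).injective p
  set f : SL(2, K) →* G := ρ.comp (toE hG h4 (muL F θ) (muL_mem_O θ hQ)) with hfdef
  set g : SL(2, K) →* G := ρ.comp (toE hG h4 (muR F θ) (muR_mem_O θ hQ)) with hgdef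
  have hf : f.ker = Subgroup.center SL(2, K) :=
    ker_toE hG h4 (muL_mem_O θ hQ) (muL_inj θ) (fun s hs h => muL_center θ hs h) hρ
  have hg : g.ker = Subgroup.center SL(2, K) :=
    ker_toE hG h4 (muR_mem_O θ hQ) (muR_inj θ) (fun s hs h => muR_center θ hs h) hρ
  have hfg : ∀ s t, f s * g t = g t * f s := by
    intro s t
    rw [hfdef, hgdef, MonoidHom.comp_apply, MonoidHom.comp_apply, ← map_mul, ← map_mul]
    congr 1
    exact Subtype.ext (muLR θ s t)
  have hP : ∀ i, Act f (x i) (P i) := by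
    intro i
    refine act_toE hG h4 (muL_mem_O θ hQ) (hl i) fun s v => ?_
    apply θ.injective
    rw [th_muL, hM, th_Phi, hM, th_Phi, th_muL, cj_coe]
    change (P i).1 * s.1 * ((P i)⁻¹).1 * ((P i).1 * θ v * ((R i)⁻¹).1) = (P i).1 * (s.1 * θ v) * ((R i)⁻¹).1
    calc _ = (P i).1 * s.1 * (((P i)⁻¹).1 * (P i).1) * θ v * ((R i)⁻¹).1 := by simp only [mul_assoc]
      _ = _ := by rw [← Units.val_mul, inv_mul_cancel, Units.val_one, mul_one]; simp only [mul_assoc]
  have hR : ∀ i, Act g (x i) (R i) := by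
    intro i
    refine act_toE hG h4 (muR_mem_O θ hQ) (hl i) fun s v => ?_
    apply θ.injective
    rw [th_muR, hM, th_Phi, hM, th_Phi, th_muR, cj_inv, cj_coe]
    change (P i).1 * θ v * ((R i)⁻¹).1 * ((R i).1 * (s⁻¹).1 * ((R i)⁻¹).1) =
      (P i).1 * (θ v * (s⁻¹).1) * ((R i)⁻¹).1
    calc _ = (P i).1 * θ v * (((R i)⁻¹).1 * (R i).1) * (s⁻¹).1 * ((R i)⁻¹).1 := by simp only [mul_assoc]
      _ = _ := by rw [← Units.val_mul, inv_mul_cancel, Units.val_one, mul_one]; simp only [mul_assoc]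
  obtain ⟨bf, lf, hlf, hlfp, hfp, hf1⟩ := exists_dgu (p := p) h4 hf
  obtain ⟨bg, lg, hlg, hlgp, hgp, hg1⟩ := exists_dgu (p := p) h4 hg
  have hsm' : RC (Matrix.ProjectiveSpecialLinearGroup (Fin 2) K) ∨ ∀ i j, i ≠ j → ¬ (mk (P i) = 1 ∧ mk (R i) = 1) →
      ¬ (mk (P j) = 1 ∧ mk (R j) = 1) → Fintype.card K + 1 < r i * r j := by
    by_cases h9 : Fintype.card K ≤ 9
    · exact Or.inr (hsm h9)
    · refine Or.inl (rc_psl hE hIH (by omega) hf (range_toE hG h4 (muL_mem_O θ hQ) hρ) hg1 ?_)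
      rintro _ ⟨s, rfl⟩
      exact (hfg s _).symm
  have hcv := fun ω : Ω => twoM h4 hf hg hfg hx.prime hx.inj hx.pow hx.comm hP hR hsm' hcov
    (y := f (dgu K bf)) ⟨_, rfl⟩ ω
  -- the plane
  have hlam : lam 0 = 0 := by
    have h1 := hQ 0
    rw [QuadraticMap.map_zero, map_zero, Matrix.det_zero] at h1
    exact h1.symm
  set u : V := θ.symm !![1, 0; 0, 0] with hu
  have hθu : ∀ k : K, θ (k • u) = !![k, 0; 0, 0] := by
    intro k
    rw [map_smul, hu, LinearEquiv.apply_symm_apply]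
    ext i j
    fin_cases i <;> fin_cases j <;> simp
  have hQk : ∀ k : K, Q (k • u) = 0 := by
    intro k
    rw [hQ, hθu, Matrix.det_fin_two_of]
    simpa using hlam
  have hu0 : u ≠ 0 := by
    intro h
    have h1 := hθu 1
    rw [h, smul_zero, map_zero] at h1
    have h2 := congrFun (congrFun h1 0) 0
    simp at h2
  have hsp : ∀ v, v ∈ Submodule.span F {u, α • u} ↔ ∃ k : K, v = k • u := by
    intro v
    rw [Submodule.mem_span_pair]
    constructor
    · rintro ⟨a, b, rfl⟩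
      refine ⟨algebraMap F K a + algebraMap F K b * α, ?_⟩
      rw [add_smul, mul_smul, algebraMap_smul, algebraMap_smul]
    · rintro ⟨k, rfl⟩
      obtain ⟨a, b, rfl⟩ := hα k
      refine ⟨a, b, ?_⟩
      rw [add_smul, mul_smul, algebraMap_smul, algebraMap_smul]
  have hind : ∀ a : F, α • u ≠ a • u := by
    intro a h
    have h1 : (α - algebraMap F K a) • u = 0 := by
      rw [sub_smul, algebraMap_smul, h, sub_self]
    rcases smul_eq_zero.1 h1 with h2 | h2
    · exact hαF a (sub_eq_zero.1 h2)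
    · exact hu0 h2
  have hpol : polar Q u (α • u) = 0 := by
    have h1 : u + α • u = (1 + α) • u := by rw [add_smul, one_smul]
    have h2 := hQk 1
    rw [one_smul] at h2
    rw [polar, h1, hQk, hQk, h2]; ring
  -- the scalar members
  have hscal : ∀ j, mk (P j) = 1 → mk (R j) = 1 → ∃ k : K, ∀ v, (M j).1 v = k • v := by
    intro j h1 h2
    obtain ⟨a, ha⟩ := smul_of_mk h1
    obtain ⟨b, hb⟩ := smul_of_mk (P := (R j)⁻¹) (by rw [map_inv, h2, inv_one])
    refine ⟨a * b, fun v => ?_⟩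
    apply θ.injective
    rw [hM, th_Phi, map_smul]
    change (P j).1 * θ v * ((R j)⁻¹).1 = _
    rw [ha, hb, Matrix.smul_mul, Matrix.mul_smul, one_mul, mul_one, smul_smul]
    rw [mul_comm]
  have hrp : ∀ j, mk (P j) = 1 → mk (R j) = 1 → r j ≠ p := by
    intro j h1 h2 hjp
    obtain ⟨k, hk⟩ := hscal j h1 h2
    apply hx.ne j
    rw [(hl j).eq_one_iff hG hE hρ]
    obtain ⟨a, ha, h3⟩ := (hl j).pow_scal hG hρ (hx.pow j)
    have h4 : ∀ n : ℕ, ∀ v, (M j ^ n).1 v = k ^ n • v := by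
      intro n
      induction n with
      | zero => intro v; rw [pow_zero, pow_zero, one_smul]; rfl
      | succ n ih =>
        intro v
        rw [pow_succ]
        change (M j ^ n).1 ((M j).1 v) = _
        rw [hk, ih, smul_smul, pow_succ]
    have h5 : k ^ p = algebraMap F K a := by
      have h6 := h3 u
      rw [h4, hjp, ← algebraMap_smul K a u] at h6
      have h7 : (k ^ p - algebraMap F K a) • u = 0 := by rw [sub_smul, h6, sub_self]
      rcases smul_eq_zero.1 h7 with h8 | h8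
      · exact sub_eq_zero.1 h8
      · exact (hu0 h8).elim
    obtain ⟨d, hd⟩ : ∃ d : F, d ^ p = a := by
      have h6 := Finite.injective_iff_surjective.1 (frobenius_inj F p)
      exact h6 a
    have h6 : k = algebraMap F K d := by
      apply frobenius_inj K p
      rw [frobenius_def, frobenius_def, h5, ← hd, map_pow]
    refine ⟨d, ?_, fun v => by rw [hk, h6, algebraMap_smul]⟩
    rintro rfl
    rw [zero_pow hpp.ne_zero] at hd
    exact ha hd.symm
  -- the final cover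
  let J := {j : ι // mk (P j) = 1 ∧ mk (R j) = 1}
  let y : Bool ⊕ J → G := Sum.elim (fun b => bif b then f (dgu K bf) else g (dgu K bg)) (fun j => x j)
  have hy : ∀ k, ∃ (L : Gam Q) (s : ℕ), Lf ρ (y k) L ∧ s.Prime ∧ s ≠ p ∧ y k ^ s = 1 ∧ y k ≠ 1 ∧
      ∀ c : K, ∃ d : K, L.1 (c • u) = d • u := by
    rintro ((_ | _) | ⟨j, hj, hj'⟩)
    · refine ⟨tg Q (toE hG h4 (muR F θ) (muR_mem_O θ hQ) (dgu K bg)), lg, Lf.tg _, hlg, hlgp, hgp, hg1,
        fun c => ⟨c * (bg⁻¹ : Kˣ), ?_⟩⟩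
      rw [tg_apply, toE_coe]
      apply θ.injective
      rw [th_muR, hθu, hθu, ← map_inv, dgu_coe, Matrix.mul_fin_two]
      ext i j
      fin_cases i <;> fin_cases j <;> simp
    · refine ⟨tg Q (toE hG h4 (muL F θ) (muL_mem_O θ hQ) (dgu K bf)), lf, Lf.tg _, hlf, hlfp, hfp, hf1,
        fun c => ⟨bf * c, ?_⟩⟩
      rw [tg_apply, toE_coe]
      apply θ.injective
      rw [th_muL, hθu, hθu, dgu_coe, Matrix.mul_fin_two]
      ext i j
      fin_cases i <;> fin_cases j <;> simp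
    · obtain ⟨k, hk⟩ := hscal j hj hj'
      refine ⟨M j, r j, hl j, hx.prime j, hrp j hj hj', hx.pow j, hx.ne j, fun c => ⟨k * c, ?_⟩⟩
      rw [hk, smul_smul]
  choose L s hL hs hsp' hpow hne hpl using hy
  refine hLR (Bool ⊕ J) (y := y) (L := L) (s := s) hL hs hsp' hpow hne ?_ (by simpa using hQk 1) (hQk α) hpol hu0
    hind ?_ ?_
  · have hc1 : ∀ (j : J) (m : G), m ∈ f.range → x j * m = m * x j := fun j => ((hP j).cent_iff hf).2 j.2.1
    have hc2 : ∀ (j : J) (m : G), m ∈ g.range → x j * m = m * x j := fun j => ((hR j).cent_iff hg).2 j.2.2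
    rintro ((_ | _) | i) ((_ | _) | j)
    · rfl
    · exact (hfg _ _).symm
    · exact (hc2 j _ ⟨_, rfl⟩).symm
    · exact hfg _ _
    · rfl
    · exact (hc1 j _ ⟨_, rfl⟩).symm
    · exact hc2 i _ ⟨_, rfl⟩
    · exact hc1 i _ ⟨_, rfl⟩
    · exact hx.comm _ _
  · intro k v hv
    obtain ⟨c, rfl⟩ := (hsp v).1 hv
    obtain ⟨d, hd⟩ := hpl k c
    exact (hsp _).2 ⟨d, hd⟩
  · intro ω
    right
    rcases hcv ω with h | h | ⟨j, h1, h2, h3⟩
    · exact ⟨Sum.inl true, h⟩
    · exact ⟨Sum.inl false, h ⟨_, rfl⟩⟩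
    · exact ⟨Sum.inr ⟨j, h1, h2⟩, h3⟩

end Cfsg.Agent.H31.RC
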