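import Cfsg.Agent.H31.RC.D4Core
import Cfsg.Agent.H338.RC.KSub
import Cfsg.Agent.H457.RC.KForm

/-!
# S3510, row F, box D4+
-/

set_option autoImplicit false
open Cfsg

namespace Cfsg.Agent.H31.RC

open QuadraticMap (polar)
open MulAction
open Cfsg.Agent.LieClassical.OrthCore Cfsg.Agent.LieClassical.OrthTrans
open Cfsg.Agent.LieClassical.OrthSimple Cfsg.Agent.ClassicalGeometry.OrthSemi
open Cfsg.Agent.ClassicalGeometry.OrthAut1 Cfsg.Agent.H106.RC Cfsg.Agent.H93.RC Cfsg.Agent.H138.RC
open Cfsg.Agent.H338.RC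
open Matrix.ProjGenLinGroup (mk mk_eq_one mk_eq_mk_iff)
open scoped commutatorElement MatrixGroups

section swap

variable {K : Type} [Field K]

/-- the adjugate of an invertible matrix -/
noncomputable def adjU (P : GL (Fin 2) K) : GL (Fin 2) K :=
  Matrix.GeneralLinearGroup.mkOfDetNeZero P.1.adjugate (by
    rw [Matrix.det_adjugate]
    have := P.det.ne_zero
    rw [Matrix.GeneralLinearGroup.val_det_apply] at this
    exact pow_ne_zero _ this)

theorem adjU_coe (P : GL (Fin 2) K) : (adjU P).1 = P.1.adjugate := rfl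

theorem adj_adj (A : Matrix (Fin 2) (Fin 2) K) : A.adjugate.adjugate = A := by
  rw [Matrix.adjugate_adjugate A (by simp)]
  simp

theorem swap_iter {T : Matrix (Fin 2) (Fin 2) K → Matrix (Fin 2) (Fin 2) K} {P R : GL (Fin 2) K}
    (hT : ∀ A, T A = P.1 * A.adjugate * R.1) (n : ℕ) :
    ∃ P2 R2 : GL (Fin 2) K, ∀ A, T^[2 * n + 1] A = P2.1 * A.adjugate * R2.1 := by
  induction n with
  | zero => exact ⟨P, R, hT⟩
  | succ n ih =>
    obtain ⟨P2, R2, h⟩ := ih
    refine ⟨P * adjU R * P2, R2 * (adjU P * R), fun A => ?_⟩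
    have h1 : 2 * (n + 1) + 1 = (2 * n + 1) + 1 + 1 := by ring
    rw [h1, Function.iterate_succ_apply', Function.iterate_succ_apply', h, hT, hT]
    rw [Matrix.adjugate_mul_distrib, Matrix.adjugate_mul_distrib, adj_adj]
    simp only [Units.val_mul, adjU_coe, mul_assoc]

/-- scalar maps -/
theorem mk_of_scal {P R : GL (Fin 2) K} {k : K} (h : ∀ A : Matrix (Fin 2) (Fin 2) K, P.1 * A * (R⁻¹).1 = k • A) :
    mk P = 1 ∧ mk R = 1 := by
  have h1 : P.1 = k • R.1 := by
    have h2 := h 1
    rw [mul_one] at h2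
    have h3 : P.1 * (R⁻¹).1 * R.1 = (k • (1 : Matrix (Fin 2) (Fin 2) K)) * R.1 := by rw [h2]
    rw [mul_assoc, ← Units.val_mul, inv_mul_cancel, Units.val_one, mul_one, Matrix.smul_mul, one_mul] at h3
    exact h3
  have hPR := mk_eq_of_smul h1
  have hk : k ≠ 0 := by
    rintro rfl
    rw [zero_smul] at h1
    have h2 := P.det.ne_zero
    rw [Matrix.GeneralLinearGroup.val_det_apply] at h2
    have h3 : (P : Matrix (Fin 2) (Fin 2) K) = 0 := h1
    rw [h3, Matrix.det_zero] at h2
    exact h2 rfl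
  have hR : mk R = 1 := by
    rw [mk_eq_one, Subgroup.mem_center_iff]
    intro A
    apply Units.ext
    rw [Units.val_mul, Units.val_mul]
    have h2 := h A.1
    rw [h1, Matrix.smul_mul, Matrix.smul_mul] at h2
    have h3 : R.1 * A.1 * (R⁻¹).1 = A.1 := smul_right_injective _ hk h2
    calc A.1 * R.1 = R.1 * A.1 * (R⁻¹).1 * R.1 := by rw [h3]
      _ = R.1 * A.1 := by rw [mul_assoc (R.1 * A.1), Units.inv_mul, mul_one]
  exact ⟨hPR.trans hR, hR⟩

end swap

variable {F K V G Ω : Type} [Field F] [Finite F] [Field K] [Fintype K] [Algebra F K] [AddCommGroup V] [Module F V]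
  [Module K V] [IsScalarTower F K V] {Q : QuadraticForm F V} [Group G] [Finite G] [MulAction G Ω] [Nonempty Ω]
  {N : Subgroup G} {ρ : ↥(E Q) →* G}

/-- **box D4+** with the field `K` given -/
theorem D4K (hG : Good Q) (hE : Env G Ω N) (hρ : Rep Q N ρ) (hIH : IH (Nat.card N)) {p : ℕ} [CharP F p]
    (hLR : LR Q Ω ρ p) {ι : Type} [Finite ι] {x : ι → G} {M : ι → Gam Q} {r : ι → ℕ}
    (hl : ∀ i, Lf ρ (x i) (M i)) (hx : PF x r) (hcov : Cov Ω x) (hcard : Nat.card K = Nat.card F ^ 2)
    {R : QuadraticForm K V} (hR : ∀ v, Algebra.trace F K (R v) = Q v) (hRn : Nondeg R)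
    (h4 : Module.finrank K V = 4) (α : K)
    (hα : ∀ a : K, ∃ c d : F, a = algebraMap F K c + algebraMap F K d * α) (hαF : ∀ c : F, α ≠ algebraMap F K c)
    (hlin : ∀ i (a : K) (v : V), (M i).1 (a • v) = a • (M i).1 v)
    (hsim : ∀ i, ∃ c : K, c ≠ 0 ∧ ∀ v, R ((M i).1 v) = c * R v)
    (W : Submodule K V) (hW : ∀ v ∈ W, R v = 0) (hW2 : Module.finrank K W = 2)
    (hns : ∀ i, r i = 2 → (∃ k : K, ∀ v, (M i).1 v = k • v) ∨
      ((2 : F) = 0 ∧ ((∀ v ∈ W, (M i).1 v ∈ W) ∨ ∀ v ∈ W, (M i).1 v ∈ W → v = 0))) : False := by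
  classical
  obtain ⟨θ, hθ, hθW⟩ := exists_coord hRn h4 W hW hW2
  have hq2 : 2 ≤ Nat.card F := Finite.one_lt_card
  have hK3 : 3 < Fintype.card K := by
    rw [← Nat.card_eq_fintype_card, hcard]
    nlinarith
  -- the maps in coordinates
  have hTex : ∀ i, ∃ T : Matrix (Fin 2) (Fin 2) K ≃ₗ[K] Matrix (Fin 2) (Fin 2) K,
      ∀ A, T A = θ ((M i).1 (θ.symm A)) := by
    intro i
    let L : V ≃ₗ[K] V :=
      { toFun := (M i).1
        map_add' := fun u v => add_of_mem (M i).2 u v
        map_smul' := fun a v => hlin i a v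
        invFun := (M i).1.symm
        left_inv := fun v => (M i).1.symm_apply_apply v
        right_inv := fun v => (M i).1.apply_symm_apply v }
    exact ⟨(θ.symm.trans L).trans θ, fun A => rfl⟩
  choose T hT using hTex
  have key : ∀ i, ∃ P R' : GL (Fin 2) K, ∀ A, T i A = P.1 * A * (R'⁻¹).1 := by
    intro i
    obtain ⟨c, hc, hc'⟩ := hsim i
    obtain ⟨P, R', h | h⟩ := simil (T i) c hc (fun A => by
      rw [hT, hθ, hc', ← hθ, LinearEquiv.apply_symm_apply])
    · exact ⟨P, R'⁻¹, fun A => by rw [inv_inv]; exact h A⟩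
    exfalso
    -- `v ∈ W` iff the second column vanishes
    have hpres : ∀ {P R' : GL (Fin 2) K}, (∀ A : Matrix (Fin 2) (Fin 2) K, A 0 1 = 0 ∧ A 1 1 = 0 →
        (P.1 * A.adjugate * R'.1) 0 1 = 0 ∧ (P.1 * A.adjugate * R'.1) 1 1 = 0) → False := by
      intro P R' h1
      obtain ⟨A, h2, h3, h4⟩ := (noswap_of P R').2
      exact h4 (h1 A ⟨h2, h3⟩)
    have hinv : (∀ v ∈ W, (M i).1 v ∈ W) → False := by
      intro h1
      refine hpres (P := P) (R' := R') fun A hA => ?_
      rw [← h A, hT]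
      refine (hθW _).1 (h1 _ ((hθW _).2 ?_))
      rw [LinearEquiv.apply_symm_apply]
      exact hA
    by_cases hr2 : r i = 2
    · rcases hns i hr2 with ⟨k, hk⟩ | ⟨-, h1 | h1⟩
      · exact hinv fun v hv => by rw [hk]; exact W.smul_mem k hv
      · exact hinv h1
      · obtain ⟨A, hA0, hA1, hA2, hA3, hA4⟩ := (noswap_of P R').1
        apply hA0
        have h2 : θ.symm A ∈ W := (hθW _).2 (by rw [LinearEquiv.apply_symm_apply]; exact ⟨hA1, hA2⟩)
        have h3 : (M i).1 (θ.symm A) ∈ W := (hθW _).2 (by rw [← hT, h A]; exact ⟨hA3, hA4⟩)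
        exact (LinearEquiv.map_eq_zero_iff _).1 (h1 _ h2 h3)
    · obtain ⟨n, hn⟩ := (hx.prime i).odd_of_ne_two hr2
      obtain ⟨P2, R2, h2⟩ := swap_iter (T := T i) h n
      rw [← hn] at h2
      obtain ⟨a, ha, h3⟩ := (hl i).pow_scal hG hρ (hx.pow i)
      have h5 : ∀ (m : ℕ) (A : Matrix (Fin 2) (Fin 2) K), (T i)^[m] A = θ ((M i ^ m).1 (θ.symm A)) := by
        intro m
        induction m with
        | zero => intro A; exact (θ.apply_symm_apply A).symm
        | succ m ih =>
          intro A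
          rw [Function.iterate_succ_apply, ih, hT, LinearEquiv.symm_apply_apply, pow_succ]
          rfl
      refine hpres (P := P2) (R' := R2) fun A hA => ?_
      rw [← h2 A, h5, h3]
      refine (hθW _).1 ?_
      rw [← algebraMap_smul K a]
      refine W.smul_mem _ ((hθW _).2 ?_)
      rw [LinearEquiv.apply_symm_apply]
      exact hA
  choose P R' hPR using key
  refine core hG hE hρ hIH hLR hl hx hcov hK3 θ (lam := fun a => Algebra.trace F K a)
    (fun v => by rw [hθ, hR]) α hα hαF P R' (fun i v => ?_) (fun h9 i j hij hi hj => ?_)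
  · apply θ.injective
    rw [th_Phi]
    have h1 := hPR i (θ v)
    rw [hT, LinearEquiv.symm_apply_apply] at h1
    exact h1
  · -- small fields
    have hsc : ∀ i, (∃ k : K, ∀ v, (M i).1 v = k • v) → mk (P i) = 1 ∧ mk (R' i) = 1 := by
      rintro i ⟨k, hk⟩
      refine mk_of_scal (k := k) fun A => ?_
      rw [← hPR, hT, hk, map_smul, LinearEquiv.apply_symm_apply]
    rw [← Nat.card_eq_fintype_card, hcard] at h9 ⊢
    have hq : Nat.card F = 2 ∨ Nat.card F = 3 := by
      have : Nat.card F < 4 := by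
        by_contra h
        nlinarith
      omega
    have hne : r i ≠ r j := fun h => hij (hx.inj h)
    have h2i := (hx.prime i).two_le
    have h2j := (hx.prime j).two_le
    rcases hq with hq | hq
    · rw [hq]
      have : 3 ≤ r i ∨ 3 ≤ r j := by omega
      rcases this with h | h <;> nlinarith
    · rw [hq]
      have h20 : (2 : F) ≠ 0 := by
        intro h0
        have h1 : (2 : F) ≠ 0 := by
          have hF : ((Nat.card F : ℕ) : F) = 0 := by
            have := Fintype.ofFinite F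
            rw [Nat.card_eq_fintype_card]
            exact FiniteField.cast_card_eq_zero F
          rw [hq] at hF
          intro h2
          have h3 : (1 : F) = 0 := by
            have h4 : ((3 : ℕ) : F) = 2 + 1 := by norm_num
            rw [hF, h2, zero_add] at h4
            exact h4.symm
          exact one_ne_zero h3
        exact h1 h0
      have h3 : ∀ i, ¬ (mk (P i) = 1 ∧ mk (R' i) = 1) → r i ≠ 2 := by
        intro i hi h
        rcases hns i h with h1 | h1
        · exact hi (hsc i h1)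
        · exact h20 h1.1
      obtain ⟨a, ha⟩ := (hx.prime i).odd_of_ne_two (h3 i hi)
      obtain ⟨b, hb⟩ := (hx.prime j).odd_of_ne_two (h3 j hj)
      have h1 : 1 ≤ a := by omega
      have h2 : 1 ≤ b := by omega
      have h5 : 2 ≤ a ∨ 2 ≤ b := by omega
      rw [ha, hb]
      rcases h5 with h | h <;> nlinarith

end Cfsg.Agent.H31.RC
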