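import Cfsg.Agent.H106.RC.Use
import Cfsg.Agent.TwoFusion.SLTwoFacts

/-!
# The M-rule for subgroups `f(SL₂(K))`

`f : SL₂(K) →* G` with kernel the centre.
-/

set_option autoImplicit false
open Cfsg

namespace Cfsg.Agent.H31.RC

open MulAction Cfsg.Agent.H106.RC
open scoped commutatorElement MatrixGroups

section proj

variable {K : Type} [Field K] [Fintype K] {G : Type} [Group G]

/-- the projection of the image of `f` onto `PSL₂(K)` -/
noncomputable def pj (f : SL(2, K) →* G) (hf : f.ker = Subgroup.center SL(2, K)) :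
    f.range →* Matrix.ProjectiveSpecialLinearGroup (Fin 2) K :=
  ((QuotientGroup.quotientKerEquivRange f).symm.trans (QuotientGroup.quotientMulEquivOfEq hf)).toMonoidHom

omit [Fintype K] in
theorem pj_bij (f : SL(2, K) →* G) (hf : f.ker = Subgroup.center SL(2, K)) : Function.Bijective (pj f hf) :=
  ((QuotientGroup.quotientKerEquivRange f).symm.trans (QuotientGroup.quotientMulEquivOfEq hf)).bijective

omit [Fintype K] in
theorem pj_ker (f : SL(2, K) →* G) (hf : f.ker = Subgroup.center SL(2, K)) :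
    (pj f hf).ker ≤ Subgroup.center f.range := by
  rw [(MonoidHom.ker_eq_bot_iff _).2 (pj_bij f hf).1]
  exact bot_le

theorem perf (h4 : 3 < Fintype.card K) (f : SL(2, K) →* G) : ⁅f.range, f.range⁆ = f.range := by
  have h1 := Cfsg.Agent.TwoFusion.SLTwoFacts.commutator_eq_top h4
  rw [commutator_def] at h1
  rw [MonoidHom.range_eq_map, ← Subgroup.map_commutator, h1]

theorem psl_ncomm (h4 : 3 < Fintype.card K) :
    ¬ IsMulCommutative (Matrix.ProjectiveSpecialLinearGroup (Fin 2) K) := by
  intro hc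
  have hs := Cfsg.Agent.TwoFusion.SLTwoFacts.isSimpleGroup_psl h4
  have h1 := Cfsg.Agent.TwoFusion.SLTwoFacts.commutator_eq_top h4
  -- the commutator subgroup is contained in the centre
  have h2 : commutator SL(2, K) ≤ Subgroup.center SL(2, K) := by
    rw [commutator_def, Subgroup.commutator_le]
    intro a _ b _
    rw [← QuotientGroup.eq_one_iff]
    have h3 : ((⁅a, b⁆ : SL(2, K)) : SL(2, K) ⧸ Subgroup.center SL(2, K)) =
        ⁅(a : SL(2, K) ⧸ Subgroup.center SL(2, K)), (b : SL(2, K) ⧸ Subgroup.center SL(2, K))⁆ := rfl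
    rw [h3, commutatorElement_eq_one_iff_mul_comm]
    exact hc.is_comm.comm _ _
  rw [h1] at h2
  obtain ⟨x, hx⟩ := exists_ne (1 : Matrix.ProjectiveSpecialLinearGroup (Fin 2) K)
  obtain ⟨a, rfl⟩ := QuotientGroup.mk_surjective x
  exact hx ((QuotientGroup.eq_one_iff a).2 (h2 trivial))

/-- the order is not that of `A5`, `A6`, `A8` -/
theorem psl_not_exc (h9 : 9 < Fintype.card K) : ¬ Exc (Matrix.ProjectiveSpecialLinearGroup (Fin 2) K) := by
  have hc := Cfsg.Agent.ClassicalGeometry.PSL2Basic.card_PSL2_gcd (F := K)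
  set k := Fintype.card K with hk
  have hA : ∀ n : ℕ, Nonempty (Matrix.ProjectiveSpecialLinearGroup (Fin 2) K ≃* alternatingGroup (Fin n)) →
      2 ≤ n → 2 * Nat.card (Matrix.ProjectiveSpecialLinearGroup (Fin 2) K) = n.factorial := by
    rintro n ⟨e⟩ hn
    have : Nontrivial (Fin n) := Fin.nontrivial_iff_two_le.2 hn
    rw [Nat.card_congr e.toEquiv, Nat.card_eq_fintype_card, two_mul_card_alternatingGroup, Fintype.card_perm,
      Fintype.card_fin]
  have hg : Nat.gcd 2 (k - 1) = 1 ∨ Nat.gcd 2 (k - 1) = 2 := by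
    have := Nat.gcd_dvd_left 2 (k - 1)
    have h2 := (Nat.dvd_prime Nat.prime_two).1 this
    exact h2
  have hmono : 10 * (10 ^ 2 - 1) ≤ k * (k ^ 2 - 1) :=
    Nat.mul_le_mul (by omega) (Nat.sub_le_sub_right (Nat.pow_le_pow_left (by omega) 2) 1)
  have hno : ∀ N : ℕ, (N = 20160 ∨ N = 40320) → k * (k ^ 2 - 1) ≠ N := by
    intro N hN hkN
    have h35 : k < 35 := by
      by_contra h
      have h3 : 35 * (35 ^ 2 - 1) ≤ k * (k ^ 2 - 1) :=
        Nat.mul_le_mul (by omega) (Nat.sub_le_sub_right (Nat.pow_le_pow_left (by omega) 2) 1)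
      omega
    interval_cases k <;> omega
  rintro (h | h | h)
  · have h1 := hA 5 h (by norm_num)
    have h2 : (5 : ℕ).factorial = 120 := by decide
    rw [h2] at h1
    rcases hg with h3 | h3 <;> rw [h3] at hc <;> omega
  · have h1 := hA 6 h (by norm_num)
    have h2 : (6 : ℕ).factorial = 720 := by decide
    rw [h2] at h1
    rcases hg with h3 | h3 <;> rw [h3] at hc <;> omega
  · have h1 := hA 8 h (by norm_num)
    have h2 : (8 : ℕ).factorial = 40320 := by decide
    rw [h2] at h1
    rcases hg with h3 | h3 <;> rw [h3] at hc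
    · exact hno _ (Or.inl rfl) (by omega)
    · exact hno _ (Or.inr rfl) (by omega)

end proj

end Cfsg.Agent.H31.RC
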