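import Cfsg.Agent.H31.RC.Act

/-!
# Two commuting factors `SL₂(K)`
-/

set_option autoImplicit false
open Cfsg

namespace Cfsg.Agent.H31.RC

open MulAction Cfsg.Agent.H106.RC
open Matrix.ProjGenLinGroup (mk mk_eq_one mk_eq_mk_iff)
open scoped commutatorElement MatrixGroups

section two

variable {K : Type} [Field K] [Fintype K] {G : Type} [Group G]

/-- the two M-rules -/
theorem twoM {ι Ω : Type} [Finite ι] [MulAction G Ω] (h4 : 3 < Fintype.card K) {f g : SL(2, K) →* G}
    (hf : f.ker = Subgroup.center SL(2, K)) (hg : g.ker = Subgroup.center SL(2, K))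
    (hfg : ∀ s t, f s * g t = g t * f s) {x : ι → G} {r : ι → ℕ}
    (hr : ∀ i, (r i).Prime) (hinj : Function.Injective r) (hx : ∀ i, x i ^ r i = 1)
    (hc : ∀ i j, x i * x j = x j * x i) {P R : ι → GL (Fin 2) K} (hP : ∀ i, Act f (x i) (P i))
    (hR : ∀ i, Act g (x i) (R i))
    (hsm : RC (Matrix.ProjectiveSpecialLinearGroup (Fin 2) K) ∨ ∀ i j, i ≠ j → ¬ (mk (P i) = 1 ∧ mk (R i) = 1) →
      ¬ (mk (P j) = 1 ∧ mk (R j) = 1) → Fintype.card K + 1 < r i * r j)
    (hcov : Cov Ω x) {y : G} (hy : y ∈ f.range) (ω : Ω) :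
    y • ω = ω ∨ g.range ≤ stabilizer G ω ∨ ∃ j, mk (P j) = 1 ∧ mk (R j) = 1 ∧ x j • ω = ω := by
  by_cases hyω : y • ω = ω
  · exact Or.inl hyω
  right
  have hmove : ∀ m ∈ g.range, ¬ f.range ≤ stabilizer G (m • ω) := by
    rintro _ ⟨t, rfl⟩ h
    obtain ⟨s, rfl⟩ := hy
    have h1 : f s • g t • ω = g t • ω := h ⟨s, rfl⟩
    rw [← mul_smul, hfg, mul_smul] at h1
    exact hyω (smul_left_cancel _ h1)
  have hsf : RC (Matrix.ProjectiveSpecialLinearGroup (Fin 2) K) ∨ ∀ i j, i ≠ j →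
      (∀ m ∈ f.range, x i * m = m * x i) ∨ (∀ m ∈ f.range, x j * m = m * x j) := by
    refine hsm.imp id fun h i j hij => ?_
    by_cases hi : mk (P i) = 1
    · exact Or.inl (((hP i).cent_iff hf).2 hi)
    by_cases hj : mk (P j) = 1
    · exact Or.inr (((hP j).cent_iff hf).2 hj)
    exact small hf hr hinj hx hc hP hij (h i j hij (fun h => hi h.1) (fun h => hj h.1))
  have h1 : ∀ m ∈ g.range, ∃ j : {j : ι // mk (P j) = 1}, x j • m • ω = m • ω := by
    intro m hm
    rcases ruleM h4 hf hr hinj hx hc hP hsf (m • ω) (fun m' _ => hcov (m' • m • ω)) with h | ⟨j, hj, hj'⟩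
    · exact (hmove m hm h).elim
    · exact ⟨⟨j, ((hP j).cent_iff hf).1 hj⟩, hj'⟩
  have hsg : RC (Matrix.ProjectiveSpecialLinearGroup (Fin 2) K) ∨ ∀ i j : {j : ι // mk (P j) = 1}, i ≠ j →
      (∀ m ∈ g.range, x i * m = m * x i) ∨ (∀ m ∈ g.range, x j * m = m * x j) := by
    refine hsm.imp id fun h i j hij => ?_
    have hij' : (i : ι) ≠ j := fun h => hij (Subtype.ext h)
    by_cases hi : mk (R i) = 1
    · exact Or.inl (((hR i).cent_iff hg).2 hi)
    by_cases hj : mk (R j) = 1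
    · exact Or.inr (((hR j).cent_iff hg).2 hj)
    exact small hg hr hinj hx hc hR hij' (h i j hij' (fun h => hi h.2) (fun h => hj h.2))
  rcases ruleM (ι := {j : ι // mk (P j) = 1}) h4 hg (x := fun j => x j) (r := fun j => r j)
    (fun j => hr j) (fun i j hij => Subtype.ext (hinj hij)) (fun j => hx j) (fun i j => hc i j)
    (P := fun j => R j) (fun j => hR j) hsg ω h1 with h | ⟨j, hj, hj'⟩
  · exact Or.inl h
  · exact Or.inr ⟨j, j.2, ((hR j).cent_iff hg).1 hj, hj'⟩

omit [Fintype K] in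
/-- diagonal elements -/
def dgu (K : Type) [Field K] : Kˣ →* SL(2, K) where
  toFun b := ⟨!![(b : K), 0; 0, ((b⁻¹ : Kˣ) : K)], by simp [Matrix.det_fin_two_of]⟩
  map_one' := by
    apply Subtype.ext
    ext i j
    fin_cases i <;> fin_cases j <;> simp
  map_mul' a b := by
    apply Subtype.ext
    change !![((a * b : Kˣ) : K), 0; 0, (((a * b)⁻¹ : Kˣ) : K)] =
      !![(a : K), 0; 0, ((a⁻¹ : Kˣ) : K)] * !![(b : K), 0; 0, ((b⁻¹ : Kˣ) : K)]
    rw [Matrix.mul_fin_two]
    ext i j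
    fin_cases i <;> fin_cases j <;> simp [mul_comm]

omit [Fintype K] in
theorem dgu_coe (b : Kˣ) : (dgu K b).1 = !![(b : K), 0; 0, ((b⁻¹ : Kˣ) : K)] := rfl

/-- an element of prime order different from the characteristic -/
theorem exists_dgu (h4 : 3 < Fintype.card K) {f : SL(2, K) →* G} (hf : f.ker = Subgroup.center SL(2, K)) {p : ℕ}
    [CharP K p] : ∃ (b : Kˣ) (l : ℕ), l.Prime ∧ l ≠ p ∧ f (dgu K b) ^ l = 1 ∧ f (dgu K b) ≠ 1 := by
  classical
  obtain ⟨a, ha⟩ : ∃ a : Kˣ, a ^ 2 ≠ 1 := by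
    have h1 : ({0, 1, -1} : Finset K).card < (Finset.univ : Finset K).card := by
      refine lt_of_le_of_lt Finset.card_le_three ?_
      rwa [Finset.card_univ]
    obtain ⟨x, -, hx⟩ := Finset.exists_mem_notMem_of_card_lt_card h1
    simp only [Finset.mem_insert, Finset.mem_singleton, not_or] at hx
    refine ⟨Units.mk0 x hx.1, ?_⟩
    intro h2
    have h3 : x * x = 1 := by
      have := congrArg Units.val h2
      rw [Units.val_pow_eq_pow_val, Units.val_mk0, Units.val_one, pow_two] at this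
      exact this
    rcases mul_self_eq_one_iff.mp h3 with h3 | h3
    · exact hx.2.1 h3
    · exact hx.2.2 h3
  let d : Kˣ →* G := f.comp (dgu K)
  have hd : d a ≠ 1 := by
    intro h1
    have h2 : dgu K a ∈ Subgroup.center SL(2, K) := by rw [← hf]; exact h1
    obtain ⟨e, he, hes⟩ := Matrix.SpecialLinearGroup.mem_center_iff.1 h2
    have h00 := congrFun (congrFun hes 0) 0
    have h11 := congrFun (congrFun hes 1) 1
    simp [dgu_coe] at h00 h11
    apply ha
    apply Units.ext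
    have h3 : (a : K) = (a : K)⁻¹ := h00.symm.trans h11
    rw [Units.val_pow_eq_pow_val, Units.val_one, pow_two]
    calc (a : K) * a = (a : K)⁻¹ * a := by rw [← h3]
      _ = 1 := inv_mul_cancel₀ a.ne_zero
  set n := orderOf (d a) with hn
  have hn1 : n ≠ 1 := fun h => hd (orderOf_eq_one_iff.1 h)
  have hn0 : 0 < n := Nat.pos_of_dvd_of_pos (orderOf_map_dvd d a) (orderOf_pos a)
  have hl := Nat.minFac_prime hn1
  have hln := Nat.minFac_dvd n
  refine ⟨a ^ (n / n.minFac), n.minFac, hl, ?_, ?_, ?_⟩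
  · intro hp
    have h1 : n ∣ Fintype.card Kˣ := (orderOf_map_dvd d a).trans orderOf_dvd_card
    rw [Fintype.card_units] at h1
    have h2 : p ∣ Fintype.card K := (CharP.cast_eq_zero_iff K p _).1 (FiniteField.cast_card_eq_zero K)
    have h3 : p ∣ Fintype.card K - 1 := by rw [← hp]; exact hln.trans h1
    have h5 : p ∣ 1 := by
      have := Nat.dvd_sub h2 h3
      rwa [Nat.sub_sub_self (by omega)] at this
    rw [← hp, Nat.dvd_one] at h5
    exact hl.one_lt.ne' h5
  · have h1 : f (dgu K (a ^ (n / n.minFac))) = d a ^ (n / n.minFac) := by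
      rw [← map_pow]; rfl
    rw [h1, ← pow_mul, Nat.div_mul_cancel hln, hn, pow_orderOf_eq_one]
  · have h1 : f (dgu K (a ^ (n / n.minFac))) = d a ^ (n / n.minFac) := by
      rw [← map_pow]; rfl
    rw [h1]
    intro h2
    have h3 := orderOf_dvd_of_pow_eq_one h2
    rw [← hn] at h3
    have h4 : n / n.minFac < n := Nat.div_lt_self hn0 hl.one_lt
    have h5 : 0 < n / n.minFac := Nat.div_pos (Nat.le_of_dvd hn0 hln) hl.pos
    exact absurd (Nat.le_of_dvd h5 h3) (by omega)

end two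

end Cfsg.Agent.H31.RC
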